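import Cfsg.Agent.KB64.PRat.Extend
import Cfsg.Agent.BC84.Extensions

/-!
# The canonical good extension
-/

set_option autoImplicit false

open Cfsg

namespace Cfsg.Agent.KB64.PRat

open BlocksCore CharDeep.Ext

universe u

variable {G : Type u} [Group G] [Finite G] {p : ℕ} [Fact p.Prime] {M : Ideal AlgInt}

theorem orderOf_hom_pos (l : G →* ℂˣ) : 0 < orderOf l := by
  rw [orderOf_pos_iff, isOfFinOrder_iff_pow_eq_one]
  exact ⟨Nat.card G, Nat.card_pos, MonoidHom.ext fun g => by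
    rw [MonoidHom.pow_apply, ← map_pow, pow_card_eq_one', map_one, MonoidHom.one_apply]⟩

theorem memLocalRing_hom (hM : IsPModular p M) (l : G →* ℂˣ) (g : G) :
    MemLocalRing M (l g : ℂ) := by
  have := isPrime hM
  exact memLocalRing_of_isIntegral (IsIntegral.of_pow (n := Nat.card G) Nat.card_pos (by
    rw [← Units.val_pow_eq_pow_val, ← map_pow, pow_card_eq_one', map_one, Units.val_one]
    exact isIntegral_one))

/-- Good extensions with `p'`-determinantal order are unique. -/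
theorem good_unique (hM : IsPModular p M) (N : Subgroup G) [N.Normal] (Q : Sylow p N)
    (hcov : N ⊔ CQ N Q = ⊤) (θ : IrrCharacter N) {d : ℕ} (hd : (θ : N → ℂ) 1 = d) (hpd : ¬ p ∣ d)
    {χ χ' : IrrCharacter G} (he : ∀ n : N, (χ : G → ℂ) n = (θ : N → ℂ) n)
    (he' : ∀ n : N, (χ' : G → ℂ) n = (θ : N → ℂ) n) (hg : Good M N Q (χ : G → ℂ))
    (hg' : Good M N Q (χ' : G → ℂ)) (ho : ¬ p ∣ orderOf (detHom (χ : G → ℂ)))
    (ho' : ¬ p ∣ orderOf (detHom (χ' : G → ℂ))) : χ = χ' := by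
  classical
  have := isPrime hM
  have := Fintype.ofFinite N
  have := Fintype.ofFinite G
  have hp : p.Prime := Fact.out
  obtain ⟨f, hfN, hf⟩ := BC84.exists_linear_of_restrict_eq N χ χ' θ he he'
  have hd1 : (χ : G → ℂ) 1 = d := by rw [← hd, ← he 1]; rfl
  set a := (Nat.card G).factorization p with ha
  set q := Nat.card G / p ^ a with hq
  have hqp : ¬ p ∣ q := Nat.not_dvd_ordCompl hp Nat.card_pos.ne'
  have hsplit : p ^ a * q = Nat.card G := Nat.ordProj_mul_ordCompl_eq_self _ p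
  have hC : ∀ x ∈ CQ N Q, f x ^ p ^ a = 1 := by
    intro x hx
    have hcong : MemLocalIdeal M ((f x : ℂ) - 1) := by
      refine (congrArg (MemLocalIdeal M) ?_).mp
        (memLocalIdeal_sub (hg' x hx) (memLocalIdeal_mul_left (memLocalRing_hom hM f x) (hg x hx)))
      rw [hf, hf, map_one, Units.val_one, one_mul, mul_div_assoc]
      ring
    have hpow : MemLocalIdeal M ((f x : ℂ) ^ p ^ a - 1) := by
      rw [← mul_geom_sum (f x : ℂ) (p ^ a)]
      refine memLocalIdeal_mul_right hcong ?_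
      exact (localRing M).sum_mem fun i _ => (localRing M).pow_mem (memLocalRing_hom hM f x) i
    refine Units.ext ?_
    rw [Units.val_pow_eq_pow_val, Units.val_one]
    refine (S4937.eq_of_congr hM hqp (one_pow q) ?_ hpow).symm
    rw [← pow_mul, hsplit, ← Units.val_pow_eq_pow_val, ← map_pow, pow_card_eq_one', map_one,
      Units.val_one]
  have hfp : ∀ g, f g ^ p ^ a = 1 := by
    intro g
    obtain ⟨n, hn, c, hc, rfl⟩ := Subgroup.mem_sup_of_normal_left.mp
      (hcov ▸ Subgroup.mem_top g : g ∈ N ⊔ CQ N Q)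
    rw [map_mul, show f n = 1 from hfN ⟨n, hn⟩, one_mul, hC c hc]
  have hdet : detHom (χ' : G → ℂ) = f ^ d * detHom (χ : G → ℂ) := by
    rw [show (χ' : G → ℂ) = fun g => (f g : ℂ) * (χ : G → ℂ) g from funext hf,
      detHom_hom_mul f (CharCore.irr_isCharacter χ) hd1]
  have hf1 : ∀ g, f g = 1 := by
    intro g
    set o := orderOf (detHom (χ : G → ℂ)) with hodef
    set o' := orderOf (detHom (χ' : G → ℂ)) with hodef'
    have h0 : detHom (χ : G → ℂ) g ^ o = 1 :=
      ((MonoidHom.pow_apply _ _ _).symm).trans (DFunLike.congr_fun (pow_orderOf_eq_one (detHom (χ : G → ℂ))) g)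
    have h0' : detHom (χ' : G → ℂ) g ^ o' = 1 :=
      ((MonoidHom.pow_apply _ _ _).symm).trans (DFunLike.congr_fun (pow_orderOf_eq_one (detHom (χ' : G → ℂ))) g)
    have he1 : f g ^ d = detHom (χ' : G → ℂ) g * (detHom (χ : G → ℂ) g)⁻¹ := by
      rw [hdet, MonoidHom.mul_apply, MonoidHom.pow_apply, mul_inv_cancel_right]
    have h1 : (f g ^ d) ^ (o * o') = 1 := by
      rw [he1, mul_pow, inv_pow, pow_mul (detHom (χ : G → ℂ) g), h0, mul_comm o o',
        pow_mul (detHom (χ' : G → ℂ) g), h0', one_pow, one_pow, inv_one, mul_one]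
    have h2 : (f g ^ d) ^ p ^ a = 1 := by rw [← pow_mul, mul_comm, pow_mul, hfp, one_pow]
    have h3 := pow_gcd_eq_one.mpr ⟨h1, h2⟩
    rw [Nat.Coprime.gcd_eq_one (Nat.Coprime.pow_right a ((hp.coprime_iff_not_dvd).mpr fun h =>
      (hp.dvd_mul.mp h).elim ho ho').symm), pow_one] at h3
    have h4 := pow_gcd_eq_one.mpr ⟨h3, hfp g⟩
    rwa [Nat.Coprime.gcd_eq_one (Nat.Coprime.pow_right a ((hp.coprime_iff_not_dvd).mpr hpd).symm),
      pow_one] at h4
  exact Subtype.ext (funext fun g => by rw [hf, hf1, Units.val_one, one_mul])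

/-- A good extension with `p'`-determinantal order exists. -/
theorem exists_good (hM : IsPModular p M) (N : Subgroup G) [N.Normal] (Q : Sylow p N)
    (hcov : N ⊔ CQ N Q = ⊤) (θ : IrrCharacter N) (hθ : θ ∈ principalBlock M N)
    (hinv : Inv N (θ : N → ℂ)) {d : ℕ} (hd : (θ : N → ℂ) 1 = d) (hpd : ¬ p ∣ d)
    (hpo : ¬ p ∣ orderOf (detHom (θ : N → ℂ))) :
    ∃ χ : IrrCharacter G, (∀ n : N, (χ : G → ℂ) n = (θ : N → ℂ) n) ∧ Good M N Q (χ : G → ℂ) ∧
      ¬ p ∣ orderOf (detHom (χ : G → ℂ)) := by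
  classical
  have := isPrime hM
  have := Fintype.ofFinite G
  have hp : p.Prime := Fact.out
  obtain ⟨ψ, hψ⟩ := exists_extension hM N Q hcov θ hθ hinv hd hpd hpo
  obtain ⟨χ₀, -, he, hJ⟩ := S4937.main hM N Q hcov θ hθ ψ hψ
  have hg₀ : Good M N Q (χ₀ : G → ℂ) := good_of_blocks hM N Q fun x _ J hJ' =>
    hJ J (hJ' ▸ le_sup_left)
  set δ := detHom (χ₀ : G → ℂ) with hδ
  have ho : 0 < orderOf δ := orderOf_hom_pos δ
  set b := (orderOf δ).factorization p with hb
  set m := orderOf δ / p ^ b with hm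
  have hsplit : p ^ b * m = orderOf δ := Nat.ordProj_mul_ordCompl_eq_self _ p
  have hmp : ¬ p ∣ m := Nat.not_dvd_ordCompl hp ho.ne'
  have hcop : Nat.Coprime (d * m) (p ^ b) :=
    Nat.Coprime.pow_right b ((hp.coprime_iff_not_dvd).mpr fun h => (hp.dvd_mul.mp h).elim hpd hmp).symm
  have hbez := Nat.gcd_eq_gcd_ab (d * m) (p ^ b)
  rw [hcop.gcd_eq_one] at hbez
  set A := Nat.gcdA (d * m) (p ^ b)
  set B := Nat.gcdB (d * m) (p ^ b)
  obtain ⟨f, hf⟩ : ∃ f : G →* ℂˣ, ∀ g, f g = δ g ^ (-(m : ℤ) * A) :=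
    ⟨(zpowGroupHom (-(m : ℤ) * A)).comp δ, fun g => rfl⟩
  have hδo : ∀ g, δ g ^ ((p ^ b * m : ℕ) : ℤ) = 1 := fun g => by
    rw [zpow_natCast, hsplit]
    exact ((MonoidHom.pow_apply _ _ _).symm).trans (DFunLike.congr_fun (pow_orderOf_eq_one δ) g)
  have hfp : ∀ g, f g ^ p ^ b = 1 := fun g => by
    rw [hf, ← zpow_natCast, ← zpow_mul,
      show -(m : ℤ) * A * ((p ^ b : ℕ) : ℤ) = ((p ^ b * m : ℕ) : ℤ) * -A by push_cast; ring,
      zpow_mul, hδo, one_zpow]
  have hfN : ∀ n : N, f n = 1 := by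
    intro n
    have h1 : detHom (θ : N → ℂ) = δ.comp N.subtype :=
      detHom_restrict N (CharCore.irr_isCharacter χ₀) he
    have h2 : orderOf (detHom (θ : N → ℂ)) ∣ m := by
      have h3 : orderOf (detHom (θ : N → ℂ)) ∣ p ^ b * m := by
        rw [hsplit]
        apply orderOf_dvd_of_pow_eq_one
        ext x
        rw [h1, MonoidHom.pow_apply, MonoidHom.comp_apply, ← MonoidHom.pow_apply, pow_orderOf_eq_one]
        rfl
      exact (Nat.Coprime.pow_right b ((hp.coprime_iff_not_dvd).mpr hpo).symm).dvd_of_dvd_mul_left h3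
    have h4 : δ (n : G) ^ m = 1 := by
      have h := orderOf_dvd_iff_pow_eq_one.mp h2
      rw [h1] at h
      simpa using DFunLike.congr_fun h n
    rw [hf, neg_mul, ← mul_neg, zpow_mul, zpow_natCast, h4, one_zpow]
  let χ : IrrCharacter G := ⟨fun g => (f g : ℂ) * (χ₀ : G → ℂ) g, CharCore.isIrrCharacter_hom_mul f χ₀.2⟩
  refine ⟨χ, fun n => ?_, fun x hx => ?_, ?_⟩
  · show (f (n : G) : ℂ) * (χ₀ : G → ℂ) n = _
    rw [hfN, Units.val_one, one_mul, he]
  · have hfx : MemLocalIdeal M ((f x : ℂ) - 1) :=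
      memLocalIdeal_sub_one_of_pow hM (k := b) (by
        rw [← Units.val_pow_eq_pow_val, hfp]; rfl)
    refine (congrArg (MemLocalIdeal M) ?_).mp
      (memLocalIdeal_add (memLocalIdeal_mul_left (memLocalRing_hom hM f x) (hg₀ x hx)) hfx)
    show _ = (f x : ℂ) * (χ₀ : G → ℂ) x / ((f 1 : ℂ) * (χ₀ : G → ℂ) 1) - 1
    rw [map_one, Units.val_one, one_mul, mul_div_assoc]
    ring
  · have hd0 : (χ₀ : G → ℂ) 1 = d := by rw [← hd, ← he 1]; rfl
    have hdvd : orderOf (detHom (χ : G → ℂ)) ∣ m := by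
      apply orderOf_dvd_of_pow_eq_one
      show detHom (fun g => (f g : ℂ) * (χ₀ : G → ℂ) g) ^ m = 1
      rw [detHom_hom_mul f (CharCore.irr_isCharacter χ₀) hd0, ← hδ]
      refine MonoidHom.ext fun g => ?_
      rw [MonoidHom.pow_apply, MonoidHom.mul_apply, MonoidHom.pow_apply, hf, MonoidHom.one_apply,
        ← zpow_natCast (δ g ^ _), ← zpow_mul, ← zpow_add_one, ← zpow_natCast, ← zpow_mul,
        show (-(m : ℤ) * A * d + 1) * m = ((p ^ b * m : ℕ) : ℤ) * B by
          push_cast at hbez ⊢; linear_combination (m : ℤ) * hbez,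
        zpow_mul, hδo, one_zpow]
    exact fun h => hmp (h.trans hdvd)

end Cfsg.Agent.KB64.PRat
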