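import Cfsg.Agent.S4937

/-!
# Principal-block congruences on the centraliser of a Sylow subgroup of a normal subgroup
-/

set_option autoImplicit false

open Cfsg

namespace Cfsg.Agent.KB64.PRat

open BlocksCore Blocks88

variable {G : Type*} [Group G] [Finite G] {p : ℕ} [Fact p.Prime] {M : Ideal AlgInt}

/-- The centraliser of a Sylow subgroup of `N`. -/
abbrev CQ (N : Subgroup G) (Q : Sylow p N) : Subgroup G :=
  Subgroup.centralizer (((Q : Subgroup N).map N.subtype : Subgroup G) : Set G)

/-- Normalised values congruent to one on the centraliser of the Sylow subgroup of `N`. -/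
def Good (M : Ideal AlgInt) (N : Subgroup G) (Q : Sylow p N) (χ : G → ℂ) : Prop :=
  ∀ x ∈ CQ N Q, MemLocalIdeal M (χ x / χ 1 - 1)

/-- Congruence for a principal-block character at an element with class size prime to `p`. -/
theorem congr_of_principal (hM : IsPModular p M) {χ : IrrCharacter G}
    (hχ : χ ∈ principalBlock M G) {g : G}
    (hg : ¬ p ∣ (Subgroup.centralizer ({g} : Set G)).index) :
    MemLocalIdeal M ((χ : G → ℂ) g / (χ : G → ℂ) 1 - 1) := by
  have := isPrime hM
  set k := (Subgroup.centralizer ({g} : Set G)).index with hk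
  have hk0 : (k : ℂ) ≠ 0 := Nat.cast_ne_zero.mpr fun h => hg (h ▸ dvd_zero p)
  have h : MemLocalIdeal M (centralChar (fun _ : G => (1 : ℂ)) g - centralChar (χ : G → ℂ) g) := hχ g
  have h2 := memLocalIdeal_mul_left (memLocalRing_natCast_inv hM hg) (memLocalIdeal_neg h)
  refine (congrArg (MemLocalIdeal M) ?_).mp h2
  simp only [centralChar, ← hk]
  field_simp
  ring

/-- Principal-block membership of the restrictions to the subgroups over `N` gives `Good`. -/
theorem good_of_blocks (hM : IsPModular p M) (N : Subgroup G) [N.Normal] (Q : Sylow p N)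
    {χ : G → ℂ}
    (h : ∀ x ∈ CQ N Q, ∀ J : Subgroup G, J = N ⊔ Subgroup.zpowers x →
      ∃ ξ : IrrCharacter J, ξ ∈ principalBlock M J ∧ ∀ y : J, (ξ : J → ℂ) y = χ y) :
    Good M N Q χ := by
  intro x hx
  obtain ⟨J, hJ⟩ : ∃ J : Subgroup G, J = N ⊔ Subgroup.zpowers x := ⟨_, rfl⟩
  have hxJ : x ∈ J := hJ ▸ Subgroup.mem_sup_right (Subgroup.mem_zpowers x)
  have hNJ : N ≤ J := hJ ▸ le_sup_left
  obtain ⟨ξ, hξ, hval⟩ := h x hx J hJ
  set N' := N.subgroupOf J with hN'
  set C := Subgroup.centralizer ({(⟨x, hxJ⟩ : J)} : Set J) with hC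
  have hsup : C ⊔ N' = ⊤ := by
    rw [eq_top_iff]
    have hle : J ≤ (C ⊔ N').map J.subtype := by
      have h1 : N ≤ (C ⊔ N').map J.subtype := fun n hn =>
        ⟨⟨n, hNJ hn⟩, Subgroup.mem_sup_right hn, rfl⟩
      have h2 : Subgroup.zpowers x ≤ (C ⊔ N').map J.subtype := by
        rw [Subgroup.zpowers_le]
        exact ⟨⟨x, hxJ⟩, Subgroup.mem_sup_left (Subgroup.mem_centralizer_singleton_iff.mpr rfl), rfl⟩
      exact (le_of_eq hJ).trans (sup_le h1 h2)
    intro j _
    obtain ⟨k, hk, hkj⟩ := hle j.2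
    rwa [show j = k from (Subtype.ext hkj).symm]
  let Q' : Subgroup J := ((Q : Subgroup N).map N.subtype).subgroupOf J
  have hQN : (Q : Subgroup N).map N.subtype ≤ N := Subgroup.map_subtype_le _
  have hQ' : Q' ≤ C ⊓ N' := fun q hq =>
    ⟨Subgroup.mem_centralizer_singleton_iff.mpr
      (Subtype.ext ((Subgroup.mem_centralizer_iff.mp hx) (q : G) hq)), hQN hq⟩
  have hcQ : Nat.card Q' = Nat.card (Q : Subgroup N) := by
    rw [Nat.card_congr (Subgroup.subgroupOfEquivOfLe (hQN.trans hNJ)).toEquiv,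
      Subgroup.card_map_of_injective N.subtype_injective]
  have hcN : Nat.card N' = Nat.card N := Nat.card_congr (Subgroup.subgroupOfEquivOfLe hNJ).toEquiv
  -- `|Q| |J : N|` divides the order of the centraliser
  have hrel : N'.relIndex C = N'.index := by
    rw [← Subgroup.relIndex_top_right, ← hsup, Subgroup.relIndex_sup_right]
  have hdvd : Nat.card Q' * N'.index ∣ Nat.card C := by
    refine ⟨(Q'.relIndex (C ⊓ N')), ?_⟩
    have h1 : Nat.card Q' * Q'.relIndex (C ⊓ N') = Nat.card (C ⊓ N' : Subgroup J) := by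
      rw [← Subgroup.card_mul_index (Q'.subgroupOf (C ⊓ N')),
        Nat.card_congr (Subgroup.subgroupOfEquivOfLe hQ').toEquiv]
      rfl
    have h2 : Nat.card (C ⊓ N' : Subgroup J) * N'.relIndex C = Nat.card C := by
      rw [← Subgroup.card_mul_index (N'.subgroupOf C),
        ← Nat.card_congr (Subgroup.subgroupOfEquivOfLe (inf_le_left : C ⊓ N' ≤ C)).toEquiv]
      congr 1
      rw [Subgroup.inf_subgroupOf_left]
    rw [← h2, ← h1, hrel]
    ring
  have hidx : C.index ∣ (Q : Subgroup N).index := by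
    obtain ⟨c, hc⟩ := hdvd
    have e1 : Nat.card C * C.index = Nat.card J := C.card_mul_index
    have e2 : Nat.card N' * N'.index = Nat.card J := N'.card_mul_index
    have e3 : Nat.card (Q : Subgroup N) * (Q : Subgroup N).index = Nat.card N :=
      (Q : Subgroup N).card_mul_index
    refine ⟨c, ?_⟩
    have hpos : 0 < Nat.card Q' * N'.index :=
      Nat.mul_pos Nat.card_pos (Nat.pos_of_ne_zero Subgroup.index_ne_zero_of_finite)
    apply Nat.eq_of_mul_eq_mul_left hpos
    calc Nat.card Q' * N'.index * (Q : Subgroup N).index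
        = Nat.card N' * N'.index := by rw [hcN, ← e3, hcQ]; ring
      _ = Nat.card C * C.index := by rw [e1, e2]
      _ = Nat.card Q' * N'.index * (C.index * c) := by rw [hc]; ring
  have hp' : ¬ p ∣ C.index := fun hd => Q.not_dvd_index (hd.trans hidx)
  have := congr_of_principal hM hξ hp'
  rwa [hval, hval, OneMemClass.coe_one] at this

/-- The representation hypothesis of the block criterion. -/
theorem principalOn [Fintype G] (hM : IsPModular p M) {N : Subgroup G} [N.Normal] (θ : IrrCharacter N)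
    (hθ : θ ∈ principalBlock M N) {n : ℕ} (ρ : Representation ℂ G (Fin n → ℂ))
    (hρ : ∀ x : N, ρ.character x = (θ : N → ℂ) x) :
    Representation.IsIrreducible (ρ.comp N.subtype : Representation ℂ N (Fin n → ℂ)) ∧
      PrincipalOn M ρ N := by
  classical
  have := isPrime hM
  have := Fintype.ofFinite N
  let φ : N →* conjN N :=
    { toFun := fun a => ⟨ConjAct.toConjAct (a : G), Subgroup.mem_map_of_mem _ a.2⟩
      map_one' := Subtype.ext (map_one _)
      map_mul' := fun a b => Subtype.ext (map_mul ConjAct.toConjAct (a : G) b) }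
  have hchar : Representation.character (ρ.comp N.subtype : Representation ℂ N (Fin n → ℂ)) =
      (θ : N → ℂ) := funext hρ
  refine ⟨(CharCore.isIrreducible_iff _).mpr (by rw [hchar, CharCore.classInner_irr_self]),
    fun K hK => ?_⟩
  let a : N → ℂ := fun z => (K (z : G) : ℂ)
  have ha : IsIntClassFun M a := ⟨fun g h => by
    show ((K ((h : G) * g * (h : G)⁻¹) : ℕ) : ℂ) = K (g : G)
    rw [← hK (φ h) (g : G)]
    rfl, fun g => memLocalRing_natCast _⟩
  let one : IrrCharacter N := ⟨fun _ => 1, CharCore.isIrrCharacter_one⟩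
  have h1 : SameBlock M ((one : IrrCharacter N) : N → ℂ) (θ : N → ℂ) := hθ
  have key := memLocalIdeal_neg (omega_sub_memLocalIdeal h1 ha)
  refine (congrArg (MemLocalIdeal M) ?_).mp key
  rw [omega_eq_sum, omega_eq_sum, neg_sub, Finset.sum_sub_distrib,
    Finset.sum_subtype (Finset.univ.filter (· ∈ N)) (p := (· ∈ N)) (F := this) (by simp),
    Finset.sum_subtype (Finset.univ.filter (· ∈ N)) (p := (· ∈ N)) (F := this) (by simp)]
  congr 1
  · rw [Finset.sum_div]
    refine Finset.sum_congr rfl fun z _ => ?_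
    rw [ratio, hρ z, show ρ.character 1 = (θ : N → ℂ) 1 from hρ 1, mul_div_assoc]
  · simp [a, one]

/-- A good extension lies in the principal block, together with its restrictions. -/
theorem blocks_of_good (hM : IsPModular p M) (N : Subgroup G) [N.Normal] (Q : Sylow p N)
    (θ : IrrCharacter N) (hθ : θ ∈ principalBlock M N) {χ : G → ℂ} (hχ : IsIrrCharacter G χ)
    (hext : ∀ x : N, χ x = (θ : N → ℂ) x) (hgood : Good M N Q χ) {K : Type*} [Group K] [Finite K]
    (ι : K →* G) (hι : Function.Injective ι) (hN : N ≤ ι.range) :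
    ∃ ξ : IrrCharacter K, ξ ∈ principalBlock M K ∧ ∀ y, (ξ : K → ℂ) y = χ (ι y) := by
  classical
  have := isPrime hM
  have := Fintype.ofFinite G
  obtain ⟨n, ρ, -, hρ⟩ := hχ
  obtain ⟨hirr, hpr⟩ := principalOn hM θ hθ ρ (fun x => by rw [hρ, hext])
  let φ : N →* conjN N :=
    { toFun := fun a => ⟨ConjAct.toConjAct (a : G), Subgroup.mem_map_of_mem _ a.2⟩
      map_one' := Subtype.ext (map_one _)
      map_mul' := fun a b => Subtype.ext (map_mul ConjAct.toConjAct (a : G) b) }
  let Q' : Subgroup (conjN N) := (Q : Subgroup N).map φ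
  have hfix : ∀ x ∈ Fix Q', x ∈ CQ N Q := by
    rintro x h _ ⟨a, ha, rfl⟩
    have h2 : (a : G) * x * (a : G)⁻¹ = x := h ⟨φ a, Subgroup.mem_map_of_mem φ ha⟩
    exact mul_inv_eq_iff_eq_mul.mp h2
  obtain ⟨ξ, hξ, he⟩ := S4937.mem_principal ρ hM hpr (Q.isPGroup'.map φ)
    (fun x hx => by rw [ratio, hρ]; exact hgood x (hfix x hx)) ι hι hN
  exact ⟨ξ, hξ, fun y => (he y).trans (congrFun hρ _)⟩

end Cfsg.Agent.KB64.PRat
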