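import Cfsg.Agent.Lib.CharCore.Linear
import Cfsg.Agent.CharDeep.Ext.Main
import Mathlib.GroupTheory.FiniteAbelian.Duality
import Mathlib.RingTheory.RootsOfUnity.AlgebraicallyClosed
import Mathlib.Analysis.Complex.Polynomial.Basic

/-!
# An irreducible character that vanishes on no coset has irreducible restriction
-/

set_option autoImplicit false

open Cfsg
open scoped ComplexConjugate

namespace Cfsg.Agent.KB64.PRat

universe u

variable {G : Type u} [Group G] [Finite G]

/-- A linear character whose kernel is exactly a normal subgroup of prime index. -/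
theorem exists_hom_of_prime_index (U : Subgroup G) [U.Normal] (hU : U.index.Prime) :
    ∃ l : G →* ℂˣ, (∀ u ∈ U, l u = 1) ∧ ∀ g ∉ U, ∀ i : ℕ, l g ^ i = 1 → U.index ∣ i := by
  classical
  haveI := Fact.mk hU
  haveI hc : IsCyclic (G ⧸ U) := isCyclic_of_prime_card (p := U.index) (Subgroup.index_eq_card U).symm
  letI : CommGroup (G ⧸ U) := IsCyclic.commGroup
  have hcard : Nat.card (G ⧸ U) = U.index := (Subgroup.index_eq_card U).symm
  haveI : Nontrivial (G ⧸ U) := by
    rw [← Finite.one_lt_card_iff_nontrivial, hcard]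
    exact hU.one_lt
  obtain ⟨a, ha⟩ := exists_ne (1 : G ⧸ U)
  haveI : HasEnoughRootsOfUnity ℂ (Monoid.exponent (G ⧸ U)) := by
    haveI : NeZero (Monoid.exponent (G ⧸ U)) := ⟨Monoid.exponent_ne_zero_of_finite⟩
    infer_instance
  obtain ⟨φ, hφ⟩ := CommGroup.exists_apply_ne_one_of_hasEnoughRootsOfUnity (G ⧸ U) ℂ ha
  refine ⟨φ.comp (QuotientGroup.mk' U), fun u hu => ?_, fun g hg i hi => ?_⟩
  · show φ (u : G ⧸ U) = 1
    rw [(QuotientGroup.eq_one_iff u).mpr hu, map_one]
  · have hg1 : (g : G ⧸ U) ≠ 1 := fun h => hg ((QuotientGroup.eq_one_iff g).mp h)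
    have ho : orderOf (g : G ⧸ U) = U.index := by
      rcases hU.eq_one_or_self_of_dvd _ (hcard ▸ orderOf_dvd_natCard (g : G ⧸ U)) with h | h
      · exact absurd (orderOf_eq_one_iff.mp h) hg1
      · exact h
    by_contra hni
    have hcop : Nat.Coprime i (orderOf (g : G ⧸ U)) := by
      rw [ho]; exact ((hU.coprime_iff_not_dvd).mpr hni).symm
    have hker : φ ((g : G ⧸ U) ^ i) = 1 := by rw [map_pow]; exact hi
    have htop : Subgroup.zpowers (g : G ⧸ U) = ⊤ :=
      Subgroup.eq_top_of_card_eq _ (by rw [Nat.card_zpowers, ho, hcard])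
    obtain ⟨j, hj⟩ := Subgroup.mem_zpowers_iff.mp (htop ▸ Subgroup.mem_top a)
    obtain ⟨m, hm⟩ := exists_pow_eq_self_of_coprime hcop
    apply hφ
    rw [← hj, map_zpow, ← hm, map_pow, hker, one_pow, one_zpow]

/-- If `χ` is nonzero somewhere outside a normal subgroup of prime index, it restricts irreducibly. -/
theorem norm_restrict_prime (U : Subgroup G) [U.Normal] (hU : U.index.Prime) (χ : IrrCharacter G)
    {x : G} (hx : x ∉ U) (hne : (χ : G → ℂ) x ≠ 0) :
    IsIrrCharacter U (fun u : U => (χ : G → ℂ) u) := by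
  classical
  have := Fintype.ofFinite G
  have := Fintype.ofFinite U
  obtain ⟨l, hlU, hl⟩ := exists_hom_of_prime_index U hU
  refine CharCore.isIrrCharacter_iff.mpr
    ⟨CharCore.isCharacter_restrict (CharCore.irr_isCharacter χ) U, ?_⟩
  set r := U.index with hr
  have hirr : ∀ i : ℕ, IsIrrCharacter G (fun g => ((l ^ i) g : ℂ) * (χ : G → ℂ) g) := fun i =>
    CharCore.isIrrCharacter_hom_mul (l ^ i) χ.2
  have horth : ∀ i ∈ Finset.range r, i ≠ 0 →
      classInner (fun g => ((l ^ i) g : ℂ) * (χ : G → ℂ) g) (χ : G → ℂ) = 0 := by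
    intro i hi hi0
    refine CharCore.classInner_irr_of_ne (χ := ⟨_, hirr i⟩) (ψ := χ) fun h => ?_
    have h1 : ((l ^ i) x : ℂ) * (χ : G → ℂ) x = (χ : G → ℂ) x := congrFun (congrArg Subtype.val h) x
    have h2 : ((l x) ^ i : ℂˣ) = 1 := Units.ext (by
      rw [← MonoidHom.pow_apply]
      exact (mul_eq_right₀ hne).mp h1)
    exact absurd (Nat.le_of_dvd (Nat.pos_of_ne_zero hi0) (hl x hx i h2))
      (not_le.mpr (Finset.mem_range.mp hi))
  have hsum : ∑ i ∈ Finset.range r, classInner (fun g => ((l ^ i) g : ℂ) * (χ : G → ℂ) g) (χ : G → ℂ) = 1 := by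
    rw [Finset.sum_eq_single 0 horth (fun h => absurd (Finset.mem_range.mpr hU.pos) h)]
    refine (congrArg (fun f => classInner f (χ : G → ℂ)) (funext fun g => ?_)).trans (CharCore.classInner_irr_self χ)
    rw [MonoidHom.pow_apply, pow_zero, Units.val_one, one_mul]
  have hind : ∀ g : G, ∑ i ∈ Finset.range r, ((l ^ i) g : ℂ) = if g ∈ U then (r : ℂ) else 0 := by
    intro g
    simp only [MonoidHom.pow_apply, Units.val_pow_eq_pow_val]
    split_ifs with hg
    · simp [hlU g hg]
    · have h1 : (l g : ℂ) ≠ 1 := fun h => hU.not_dvd_one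
        (hl g hg 1 (by rw [pow_one]; exact Units.ext h))
      have hr1 : (l g : ℂ) ^ r = 1 := by
        rw [← Units.val_pow_eq_pow_val, ← map_pow, hlU _ (Subgroup.pow_index_mem U g), Units.val_one]
      rw [geom_sum_eq h1, hr1, sub_self, zero_div]
  simp only [CharCore.classInner_def] at hsum
  rw [← Finset.mul_sum, Finset.sum_comm] at hsum
  simp only [mul_assoc, ← Finset.sum_mul, hind, ite_mul, zero_mul] at hsum
  rw [← Finset.sum_filter, ← Finset.mul_sum,
    Finset.sum_subtype (Finset.univ.filter (· ∈ U)) (p := (· ∈ U)) (F := this) (by simp)] at hsum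
  rw [CharCore.classInner_def, ← hsum, ← U.card_mul_index, Nat.cast_mul, mul_inv, mul_assoc,
    inv_mul_cancel_left₀ (Nat.cast_ne_zero.mpr hU.ne_zero)]

/-- An irreducible character vanishing on no coset of `N`, with solvable quotient, restricts
irreducibly to `N`. -/
theorem isIrrCharacter_restrict_aux : ∀ (j : ℕ) {G : Type u} [Group G] [Finite G] (N : Subgroup G)
    [N.Normal], N.index ≤ j → Group.IsSolvable (G ⧸ N) → ∀ χ : IrrCharacter G,
    (∀ g : G, ∃ n ∈ N, (χ : G → ℂ) (g * n) ≠ 0) → IsIrrCharacter N (fun n : N => (χ : G → ℂ) n) := by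
  intro j
  induction j with
  | zero =>
    intro G _ _ N _ hj
    exact absurd (Nat.le_zero.mp hj) Subgroup.index_ne_zero_of_finite
  | succ j ih =>
    intro G _ _ N _ hj hs χ h
    by_cases h1 : N.index = 1
    · have htop := Subgroup.index_eq_one.mp h1
      subst htop
      exact CharCore.isIrrCharacter_comp_surjective χ.2 (⊤ : Subgroup G).subtype
        (fun g => ⟨⟨g, trivial⟩, rfl⟩)
    obtain ⟨U, hUn, hNU, hU⟩ := CharDeep.Ext.exists_normal_prime_index N h1
    obtain ⟨x, hx⟩ : ∃ x, x ∉ U := by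
      by_contra hall
      push Not at hall
      exact hU.ne_one (Subgroup.index_eq_one.mpr ((Subgroup.eq_top_iff' U).mpr hall))
    obtain ⟨n, hn, hne⟩ := h x
    have hxn : x * n ∉ U := fun hm => hx (by simpa using U.mul_mem hm (U.inv_mem (hNU hn)))
    let χU : IrrCharacter U := ⟨_, norm_restrict_prime U hU χ hxn hne⟩
    have hidx : (N.subgroupOf U).index ≤ j := by
      have hm := Subgroup.relIndex_mul_index hNU
      have hpos : 0 < (N.subgroupOf U).index := Nat.pos_of_ne_zero Subgroup.index_ne_zero_of_finite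
      have h2 : (N.subgroupOf U).index * 2 ≤ j + 1 := by
        calc (N.subgroupOf U).index * 2 ≤ (N.subgroupOf U).index * U.index :=
              Nat.mul_le_mul_left _ hU.two_le
          _ = N.index := hm
          _ ≤ j + 1 := hj
      omega
    have hsU : Group.IsSolvable (U ⧸ N.subgroupOf U) := by
      let f : U ⧸ N.subgroupOf U →* G ⧸ N :=
        QuotientGroup.map (N.subgroupOf U) N U.subtype (fun _ hm => hm)
      refine Group.isSolvable_of_isSolvable_injective (f := f) ((injective_iff_map_eq_one f).mpr fun q hq => ?_)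
      obtain ⟨u, rfl⟩ := QuotientGroup.mk_surjective q
      exact (QuotientGroup.eq_one_iff u).mpr
        (Subgroup.mem_subgroupOf.mpr ((QuotientGroup.eq_one_iff (u : G)).mp hq))
    have key := ih (N.subgroupOf U) hidx hsU χU fun u => by
      obtain ⟨m, hm, hne⟩ := h u
      exact ⟨⟨m, hNU hm⟩, hm, hne⟩
    have := CharCore.isIrrCharacter_comp_surjective key
      (Subgroup.subgroupOfEquivOfLe hNU).symm.toMonoidHom (Subgroup.subgroupOfEquivOfLe hNU).symm.surjective
    exact this

/-- An irreducible character vanishing on no coset of `N`, with solvable quotient, restricts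
irreducibly to `N`. -/
theorem isIrrCharacter_restrict_of_ne_zero (N : Subgroup G) [N.Normal] [Group.IsSolvable (G ⧸ N)]
    (χ : IrrCharacter G) (h : ∀ g : G, ∃ n ∈ N, (χ : G → ℂ) (g * n) ≠ 0) :
    IsIrrCharacter N (fun n : N => (χ : G → ℂ) n) :=
  isIrrCharacter_restrict_aux _ N le_rfl inferInstance χ h

end Cfsg.Agent.KB64.PRat
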