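import Cfsg.Agent.KB64.PRat.Congr
import Cfsg.Agent.KB64.PRat.Restrict
import Cfsg.Agent.CharB.CliffordDegree
import Cfsg.Agent.BC87.CoveringBlock
import Cfsg.Agent.BC86.Principal
import Cfsg.Agent.CharDeep.Ext.Wrap

/-!
# Extension of an invariant principal-block character along the centraliser of a Sylow subgroup
-/

set_option autoImplicit false

open Cfsg

namespace Cfsg.Agent.KB64.PRat

open BlocksCore CharDeep.Ext

universe u

variable {G : Type u} [Group G] [Finite G] {p : ℕ} [Fact p.Prime] {M : Ideal AlgInt}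

/-- The principal block is carried along an isomorphism. -/
theorem comp_mem_principalBlock (hM : IsPModular p M) {A B : Type u} [Group A] [Finite A] [Group B]
    [Finite B] (e : A ≃* B) {χ : IrrCharacter B} (hχ : χ ∈ principalBlock M B) :
    ∃ ψ : IrrCharacter A, ψ ∈ principalBlock M A ∧ ∀ a, (ψ : A → ℂ) a = (χ : B → ℂ) (e a) := by
  classical
  have := Fintype.ofFinite A
  have := Fintype.ofFinite B
  refine ⟨⟨_, CharCore.isIrrCharacter_comp_surjective χ.2 e.toMonoidHom e.surjective⟩, ?_, fun a => rfl⟩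
  rw [BC86.mem_principalBlock_iff hM] at hχ ⊢
  intro h
  refine hχ (Eq.trans ?_ h)
  refine (Fintype.sum_equiv e.toEquiv _ _ fun a => ?_).symm
  simp only [MulEquiv.toEquiv_eq_coe, EquivLike.coe_coe, MulEquiv.coe_toMonoidHom, MulEquiv.orderOf_eq]

/-- At a prime other than `p` the character extends to the preimage of a Sylow subgroup. -/
theorem extend_at_ne (hM : IsPModular p M) (N : Subgroup G) [N.Normal] (Q : Sylow p N)
    (hcov : N ⊔ CQ N Q = ⊤) (θ : IrrCharacter N) (hθ : θ ∈ principalBlock M N) {r : ℕ}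
    (hr : r.Prime) (hrp : r ≠ p) :
    ∃ (P : Subgroup G) (hNP : N ≤ P) (η : P → ℂ), Nat.Coprime P.index r ∧ Cfsg.IsCharacter P η ∧
      ∀ n : N, η ⟨(n : G), hNP n.2⟩ = (θ : N → ℂ) n := by
  classical
  have := Fact.mk hr
  have := isPrime hM
  let C := CQ N Q
  obtain ⟨R⟩ := (inferInstance : Nonempty (Sylow r C))
  set R' : Subgroup G := (R : Subgroup C).map C.subtype with hR'
  obtain ⟨P, hP⟩ : ∃ P : Subgroup G, P = N ⊔ R' := ⟨_, rfl⟩
  have hNP : N ≤ P := hP ▸ le_sup_left
  -- the index of `P` is prime to `r`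
  have hidx : Nat.Coprime P.index r := by
    refine ((hr.coprime_iff_not_dvd).mpr fun h => R.not_dvd_index (h.trans ?_)).symm
    let f : C →* G ⧸ N := (QuotientGroup.mk' N).comp C.subtype
    have hf : Function.Surjective f := by
      intro q
      obtain ⟨g, rfl⟩ := QuotientGroup.mk_surjective q
      obtain ⟨a, ha, c, hc, rfl⟩ := Subgroup.mem_sup_of_normal_left.mp
        (hcov ▸ Subgroup.mem_top g : g ∈ N ⊔ C)
      refine ⟨⟨c, hc⟩, ?_⟩
      show QuotientGroup.mk' N c = QuotientGroup.mk' N (a * c)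
      rw [map_mul, show QuotientGroup.mk' N a = 1 from (QuotientGroup.eq_one_iff a).mpr ha, one_mul]
    have h1 : (P.map (QuotientGroup.mk' N)).index = P.index :=
      Subgroup.index_map_eq _ (QuotientGroup.mk'_surjective N) (by rwa [QuotientGroup.ker_mk'])
    have h2 : P.map (QuotientGroup.mk' N) = (R : Subgroup C).map f := by
      rw [hP, Subgroup.map_sup, QuotientGroup.map_mk'_self, bot_sup_eq, hR', Subgroup.map_map]
    rw [← h1, h2]
    exact (R : Subgroup C).index_map_dvd hf
  -- the quotient is an `r`-group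
  set N' := N.subgroupOf P with hN'
  have hN'n : N'.Normal := inferInstance
  obtain ⟨k, hk⟩ : ∃ k, N'.index = r ^ k := by
    have hd : N'.index ∣ Nat.card (R : Subgroup C) := by
      rw [hN', show (N.subgroupOf P).index = N.relIndex P from rfl, hP, Subgroup.relIndex_sup_left,
        ← Subgroup.card_map_of_injective C.subtype_injective]
      exact Subgroup.index_dvd_card _
    obtain ⟨j, hj⟩ := R.isPGroup'.exists_card_eq
    obtain ⟨k, -, hk⟩ := (Nat.dvd_prime_pow hr).mp (hj ▸ hd)
    exact ⟨k, hk⟩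
  have hsol : Group.IsSolvable (P ⧸ N') := by
    have hg : IsPGroup r (P ⧸ N') := IsPGroup.of_card (n := k) (by rw [← Subgroup.index_eq_card, hk])
    have := hg.isNilpotent
    infer_instance
  let e : N' ≃* N := Subgroup.subgroupOfEquivOfLe hNP
  obtain ⟨θ', hθ', hval⟩ := comp_mem_principalBlock hM e hθ
  have := Fintype.ofFinite P
  have := Fintype.ofFinite N'
  -- a character of the principal block over `θ'`
  let oneP : IrrCharacter P := ⟨fun _ => 1, CharCore.isIrrCharacter_one⟩
  let oneN : IrrCharacter N' := ⟨fun _ => 1, CharCore.isIrrCharacter_one⟩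
  obtain ⟨χ, hχ, hne⟩ := BC87.CoveringBlock.exists_over_of_covers hM
    (B := principalBlock M P) ⟨oneP, rfl⟩ (b := principalBlock M N') ⟨oneN, rfl⟩
    ⟨oneP, BlocksCore.sameBlock_refl _, oneN, BlocksCore.sameBlock_refl _, by
      rw [show (fun n : N' => (oneP : P → ℂ) n) = (oneN : N' → ℂ) from rfl,
        CharCore.classInner_irr_self]
      exact one_ne_zero⟩ hθ'
  have hnz : ∀ g : P, ∃ n ∈ N', (χ : P → ℂ) (g * n) ≠ 0 := by
    intro g
    have hg : (g : G) ∈ R' ⊔ N := by
      have h := g.2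
      simp only [hP, sup_comm] at h ⊢
      exact h
    obtain ⟨x, hx, a, ha, hxa⟩ := Subgroup.mem_sup_of_normal_right.mp hg
    have haP : a⁻¹ ∈ P := hNP (N.inv_mem ha)
    refine ⟨⟨a⁻¹, haP⟩, N.inv_mem ha, ?_⟩
    set y : P := g * ⟨a⁻¹, haP⟩ with hy
    have hyx : (y : G) = x := by simp [hy, ← hxa]
    have hxC : x ∈ C := by
      obtain ⟨c, -, rfl⟩ := hx
      exact c.2
    let Q' : Subgroup P := ((Q : Subgroup N).map N.subtype).subgroupOf P
    have hQN : (Q : Subgroup N).map N.subtype ≤ N := Subgroup.map_subtype_le _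
    have hQc : Q' ≤ Subgroup.centralizer ({y} : Set P) := fun q hq =>
      Subgroup.mem_centralizer_singleton_iff.mpr (Subtype.ext (by
        simpa [hyx] using (Subgroup.mem_centralizer_iff.mp hxC) (q : G) hq))
    have hQ'i : Q'.index = (Q : Subgroup N).index * r ^ k := by
      have hle : Q' ≤ N' := fun q hq => hQN hq
      rw [← Subgroup.relIndex_mul_index hle, hk]
      congr 1
      rw [Subgroup.relIndex_subgroupOf hNP]
      show (((Q : Subgroup N).map N.subtype).subgroupOf N).index = _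
      rw [Subgroup.subgroupOf, Subgroup.comap_map_eq_self_of_injective N.subtype_injective]
    have hp' : ¬ p ∣ (Subgroup.centralizer ({y} : Set P)).index := fun h => by
      have hd := (h.trans (Subgroup.index_dvd_of_le hQc))
      rw [hQ'i] at hd
      rcases (Nat.Prime.dvd_mul Fact.out).mp hd with h1 | h1
      · exact Q.not_dvd_index h1
      · exact hrp ((Nat.prime_dvd_prime_iff_eq Fact.out hr).mp
          ((Fact.out : p.Prime).dvd_of_dvd_pow h1)).symm
    have hc := congr_of_principal hM hχ hp'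
    intro h0
    rw [h0, zero_div, zero_sub] at hc
    exact not_memLocalIdeal_one (by simpa using memLocalIdeal_neg hc)
  let χN : IrrCharacter N' := ⟨_, isIrrCharacter_restrict_of_ne_zero N' χ hnz⟩
  have heq : χN = θ' := by
    by_contra h
    exact hne (CharCore.classInner_irr_of_ne (χ := χN) (ψ := θ') h)
  refine ⟨P, hNP, (χ : P → ℂ), hidx, CharCore.irr_isCharacter χ, fun n => ?_⟩
  have h2 := congrFun (congrArg Subtype.val heq) (e.symm n)
  rw [hval, e.apply_symm_apply] at h2
  exact h2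

/-- At the prime `p` the character extends to the preimage of a Sylow subgroup. -/
theorem extend_at_self (N : Subgroup G) [N.Normal] (θ : IrrCharacter N) (hinv : Inv N (θ : N → ℂ))
    {d : ℕ} (hd : (θ : N → ℂ) 1 = d) (hpd : ¬ p ∣ d)
    (hpo : ¬ p ∣ orderOf (detHom (θ : N → ℂ))) :
    ∃ (P : Subgroup G) (hNP : N ≤ P) (η : P → ℂ), Nat.Coprime P.index p ∧ Cfsg.IsCharacter P η ∧
      ∀ n : N, η ⟨(n : G), hNP n.2⟩ = (θ : N → ℂ) n := by
  classical
  have hp : p.Prime := Fact.out
  obtain ⟨S⟩ := (inferInstance : Nonempty (Sylow p G))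
  obtain ⟨P, hP⟩ : ∃ P : Subgroup G, P = N ⊔ S := ⟨_, rfl⟩
  have hNP : N ≤ P := hP ▸ le_sup_left
  have hidx : Nat.Coprime P.index p :=
    ((hp.coprime_iff_not_dvd).mpr fun h =>
      S.not_dvd_index (h.trans (Subgroup.index_dvd_of_le (hP ▸ le_sup_right)))).symm
  set N' := N.subgroupOf P with hN'
  obtain ⟨k, hk⟩ : ∃ k, N'.index = p ^ k := by
    have hd : N'.index ∣ Nat.card (S : Subgroup G) := by
      rw [hN', show (N.subgroupOf P).index = N.relIndex P from rfl, hP, Subgroup.relIndex_sup_left]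
      exact Subgroup.index_dvd_card _
    obtain ⟨j, hj⟩ := S.isPGroup'.exists_card_eq
    obtain ⟨k, -, hk⟩ := (Nat.dvd_prime_pow hp).mp (hj ▸ hd)
    exact ⟨k, hk⟩
  let e : N' ≃* N := Subgroup.subgroupOfEquivOfLe hNP
  have hirr : IsIrrCharacter N' (fun x => (θ : N → ℂ) (e x)) :=
    CharCore.isIrrCharacter_comp_surjective θ.2 e.toMonoidHom e.surjective
  have hinv' : Inv N' (fun x => (θ : N → ℂ) (e x)) := fun g n => hinv (g : G) (e n)
  have hdet : orderOf (detHom (fun x => (θ : N → ℂ) (e x))) ∣ orderOf (detHom (θ : N → ℂ)) := by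
    rw [show (fun x => (θ : N → ℂ) (e x)) = fun x => (θ : N → ℂ) (e.toMonoidHom x) from rfl,
      detHom_comp (CharCore.irr_isCharacter θ) e.toMonoidHom]
    apply orderOf_dvd_of_pow_eq_one
    ext x
    rw [MonoidHom.pow_apply, MonoidHom.comp_apply, ← MonoidHom.pow_apply, pow_orderOf_eq_one]
    rfl
  obtain ⟨χ, ⟨hχ, hext, -⟩, -⟩ := exists_ext_detOrder N' hirr hinv' (d := d) (by simp [hd]) (by
    rw [hk, detOrder_eq]
    refine Nat.Coprime.pow_left k ((hp.coprime_iff_not_dvd).mpr fun h => ?_)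
    rcases hp.dvd_mul.mp h with h | h
    · exact hpo (h.trans hdet)
    · exact hpd h)
  refine ⟨P, hNP, χ, hidx, CharCore.IsIrrCharacter.isCharacter hχ, fun n => ?_⟩
  have h2 := hext (e.symm n)
  rw [e.apply_symm_apply] at h2
  exact h2

/-- An invariant character of the principal block with `p'`-degree and `p'`-determinantal order
extends when the centraliser of a Sylow subgroup covers the quotient. -/
theorem exists_extension (hM : IsPModular p M) (N : Subgroup G) [N.Normal] (Q : Sylow p N)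
    (hcov : N ⊔ CQ N Q = ⊤) (θ : IrrCharacter N) (hθ : θ ∈ principalBlock M N)
    (hinv : Inv N (θ : N → ℂ)) {d : ℕ} (hd : (θ : N → ℂ) 1 = d) (hpd : ¬ p ∣ d)
    (hpo : ¬ p ∣ orderOf (detHom (θ : N → ℂ))) :
    ∃ ψ : IrrCharacter G, ∀ n : N, (ψ : G → ℂ) n = (θ : N → ℂ) n := by
  classical
  have := Fintype.ofFinite G
  have := Fintype.ofFinite N
  obtain ⟨χ, hχ, hext⟩ := CharB.exists_extension_of_sylow N θ.2 hinv fun r hr => by
    by_cases h : r = p
    · subst h
      exact extend_at_self N θ hinv hd hpd hpo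
    · exact extend_at_ne hM N Q hcov θ hθ hr h
  exact ⟨⟨χ, hχ⟩, hext⟩

end Cfsg.Agent.KB64.PRat
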