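import Cfsg.Agent.Lib.CharClifford.Galois
import Cfsg.Agent.CharDeep.Ext.DetChar
import Cfsg.Agent.OddChar.Twist

/-!
# Field automorphisms, determinants of characters and cyclotomic fields
-/

set_option autoImplicit false

open Cfsg

namespace Cfsg.Agent.KB64.PRat

attribute [local instance high] IntermediateField.algebra'

open CharDeep.Ext

variable {G : Type*} [Group G] [Finite G]

/-- The determinant commutes with field automorphisms. -/
theorem detHom_map (σ : ℂ →+* ℂ) {χ : G → ℂ} (hχ : IsCharacter G χ) (g : G) :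
    (detHom (fun x => σ (χ x)) g : ℂ) = σ (detHom χ g : ℂ) := by
  classical
  obtain ⟨n, ρ, rfl⟩ := hχ
  let f : Matrix (Fin n) (Fin n) ℂ →+* Matrix (Fin n) (Fin n) ℂ := σ.mapMatrix
  let ρ' : Representation ℂ G (Fin n → ℂ) :=
    ((LinearMap.toMatrixAlgEquiv' (R := ℂ) (n := Fin n)).symm.toRingEquiv.toMonoidHom).comp
      (f.toMonoidHom.comp
        ((LinearMap.toMatrixAlgEquiv' (R := ℂ) (n := Fin n)).toRingEquiv.toMonoidHom.comp ρ))
  have hmat : ∀ x, ρ' x = Matrix.toLinAlgEquiv' ((LinearMap.toMatrixAlgEquiv' (ρ x)).map σ) :=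
    fun x => rfl
  have hchar : (fun x => σ (ρ.character x)) = ρ'.character := funext fun x => by
    show σ (LinearMap.trace ℂ _ (ρ x)) = LinearMap.trace ℂ _ (ρ' x)
    rw [hmat, LinearMap.trace_eq_matrix_trace ℂ (Pi.basisFun ℂ (Fin n)),
      LinearMap.trace_eq_matrix_trace ℂ (Pi.basisFun ℂ (Fin n)), AddMonoidHom.map_trace σ]
    congr 1
    ext i j
    simp [LinearMap.toMatrixAlgEquiv', Matrix.toLinAlgEquiv']
  rw [hchar, detHom_eq, detHom_eq]
  show LinearMap.det (ρ' g) = σ (LinearMap.det (ρ g))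
  rw [hmat, ← LinearMap.det_toMatrix', ← LinearMap.det_toMatrix', RingHom.map_det]
  congr 1
  ext i j
  simp [LinearMap.toMatrixAlgEquiv', Matrix.toLinAlgEquiv']

/-- Field automorphisms preserve the determinantal order. -/
theorem orderOf_detHom_map (σ : ℂ →+* ℂ) {χ : G → ℂ} (hχ : IsCharacter G χ) :
    orderOf (detHom (fun x => σ (χ x))) = orderOf (detHom χ) := by
  rw [orderOf_eq_orderOf_iff]
  intro n
  have h : ∀ g, (((detHom (fun x => σ (χ x)) ^ n) g : ℂˣ) : ℂ) = σ ((detHom χ ^ n) g : ℂˣ) := fun g => by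
    rw [MonoidHom.pow_apply, MonoidHom.pow_apply, Units.val_pow_eq_pow_val, Units.val_pow_eq_pow_val,
      map_pow, detHom_map σ hχ]
  constructor
  · intro h1
    refine MonoidHom.ext fun g => Units.ext (σ.injective ?_)
    rw [← h g, h1, MonoidHom.one_apply, Units.val_one, map_one]
  · intro h1
    refine MonoidHom.ext fun g => Units.ext ?_
    rw [h g, h1, MonoidHom.one_apply, Units.val_one, map_one]

omit [Finite G] in
/-- An endomorphism fixing the `n`-th roots of unity fixes the `n`-th cyclotomic field. -/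
theorem map_eq_of_mem_adjoin {n : ℕ} (σ : ℂ →+* ℂ) (hσ : ∀ μ : ℂ, μ ^ n = 1 → σ μ = μ) (hn : n ≠ 0)
    {z : ℂ}
    (hz : z ∈ IntermediateField.adjoin ℚ ({Complex.exp (2 * Real.pi * Complex.I / n)} : Set ℂ)) :
    σ z = z := by
  induction hz using IntermediateField.adjoin_induction with
  | mem x hx =>
    rw [Set.mem_singleton_iff.mp hx]
    exact hσ _ (Complex.isPrimitiveRoot_exp n hn).pow_eq_one
  | algebraMap x => simp
  | add x y _ _ hx hy => rw [map_add, hx, hy]
  | inv x _ hx => rw [map_inv₀, hx]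
  | mul x y _ _ hx hy => rw [map_mul, hx, hy]

/-- A character value fixed by every endomorphism fixing the `n`-th roots of unity lies in the
`n`-th cyclotomic field. -/
theorem apply_mem_adjoin_of_fixed {χ : G → ℂ} (hχ : IsCharacter G χ) {n : ℕ} (hn : n ≠ 0) (g : G)
    (h : ∀ σ : ℂ →+* ℂ, (∀ μ : ℂ, μ ^ n = 1 → σ μ = μ) → σ (χ g) = χ g) :
    χ g ∈ IntermediateField.adjoin ℚ ({Complex.exp (2 * Real.pi * Complex.I / n)} : Set ℂ) := by
  classical
  obtain ⟨k, ρ, rfl⟩ := hχ
  have halg : IsIntegral ℤ (ρ.character g) := by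
    obtain ⟨b, ω, hω, -, -, hk⟩ := CharCore.exists_eigenvalues ρ g
    rw [← pow_one g, hk]
    exact IsIntegral.sum _ fun i _ =>
      ((IsIntegral.of_pow (orderOf_pos g) ((hω i).symm ▸ isIntegral_one)).pow 1)
  set ζ := Complex.exp (2 * Real.pi * Complex.I / n) with hζdef
  have hζ := Complex.isPrimitiveRoot_exp n hn
  let E := algebraicClosure ℚ ℂ
  have : IsGalois ℚ E := inferInstance
  let z : E := ⟨ρ.character g, mem_algebraicClosure_iff.mpr halg.tower_top.isAlgebraic⟩
  let w : E := ⟨ζ, mem_algebraicClosure_iff.mpr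
    (hζ.isIntegral (Nat.pos_of_ne_zero hn)).tower_top.isAlgebraic⟩
  set L : IntermediateField ℚ E := IntermediateField.adjoin ℚ ({w} : Set E) with hL
  have hz : z ∈ IntermediateField.fixedField L.fixingSubgroup := by
    intro ψ
    obtain ⟨σ, hσ⟩ := CharClifford.exists_ringHom_extending ψ.1
    apply Subtype.ext
    refine (hσ z).symm.trans (h σ fun μ hμ => ?_)
    have : NeZero n := ⟨hn⟩
    obtain ⟨i, -, rfl⟩ := hζ.eq_pow_of_pow_eq_one hμ
    have hw : σ ζ = ζ := by
      have h1 : (ψ.1 : E ≃ₐ[ℚ] E) w = w :=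
        (IntermediateField.mem_fixingSubgroup_iff L ψ.1).mp ψ.2 w
          (IntermediateField.mem_adjoin_simple_self ℚ w)
      exact (hσ w).trans (congrArg Subtype.val h1)
    rw [map_pow, hw]
  rw [InfiniteGalois.fixedField_fixingSubgroup] at hz
  have h2 : E.val z ∈ L.map E.val := (IntermediateField.mem_map L).mpr ⟨z, hz, rfl⟩
  rw [hL, IntermediateField.adjoin_map, Set.image_singleton] at h2
  exact h2

/-- A character with values in a cyclotomic field of conductor prime to an odd prime `p` has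
determinantal order prime to `p`. -/
theorem not_dvd_orderOf_detHom {p : ℕ} [Fact p.Prime] (hp : p ≠ 2) {θ : G → ℂ}
    (hθ : IsCharacter G θ) {m : ℕ} (hm : ¬ p ∣ m)
    (hrat : ∀ g, θ g ∈ IntermediateField.adjoin ℚ ({Complex.exp (2 * Real.pi * Complex.I / m)} : Set ℂ)) :
    ¬ p ∣ orderOf (detHom θ) := by
  intro hdvd
  have hpp : p.Prime := Fact.out
  have hm0 : m ≠ 0 := fun h => hm (h ▸ dvd_zero p)
  have hcop : Nat.Coprime p m := (hpp.coprime_iff_not_dvd).mpr hm
  obtain ⟨k, hkp, hkm⟩ := Nat.chineseRemainder hcop 2 1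
  have hk : k.Coprime (p * m) := by
    refine Nat.Coprime.mul_right ?_ ?_
    · rw [Nat.Coprime, Nat.ModEq.gcd_eq hkp]
      exact Nat.Coprime.gcd_eq_one ((Nat.coprime_primes Nat.prime_two hpp).mpr (Ne.symm hp))
    · rw [Nat.Coprime, Nat.ModEq.gcd_eq hkm, Nat.gcd_one_left]
  obtain ⟨σ, hσ⟩ := CharClifford.exists_ringHom_pow (Nat.mul_ne_zero hpp.ne_zero hm0) hk
  have hfixm : ∀ μ : ℂ, μ ^ m = 1 → σ μ = μ := fun μ hμ => by
    rw [hσ μ (by rw [mul_comm, pow_mul, hμ, one_pow]), pow_eq_pow_mod k hμ, hkm, ← pow_eq_pow_mod 1 hμ,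
      pow_one]
  have hθσ : (fun x => σ (θ x)) = θ := funext fun x => map_eq_of_mem_adjoin σ hfixm hm0 (hrat x)
  obtain ⟨o, ho⟩ := hdvd
  have hz : ∀ g : G, (detHom θ g : ℂ) ^ o = 1 := by
    intro g
    have h1 : ((detHom θ g : ℂ) ^ o) ^ p = 1 := by
      rw [← pow_mul, mul_comm, ← ho, ← Units.val_pow_eq_pow_val,
        ← MonoidHom.pow_apply, pow_orderOf_eq_one, MonoidHom.one_apply, Units.val_one]
    have h2 : σ ((detHom θ g : ℂ) ^ o) = (detHom θ g : ℂ) ^ o := by
      rw [map_pow, ← detHom_map σ hθ, hθσ]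
    rw [hσ _ (by rw [pow_mul, h1, one_pow]), pow_eq_pow_mod k h1, hkp, ← pow_eq_pow_mod 2 h1, sq] at h2
    exact (mul_eq_left₀ (pow_ne_zero o (Units.ne_zero _))).mp h2
  have hopos : 0 < orderOf (detHom θ) := by
    rw [orderOf_pos_iff, isOfFinOrder_iff_pow_eq_one]
    exact ⟨Nat.card G, Nat.card_pos, MonoidHom.ext fun g => by
      rw [MonoidHom.pow_apply, ← map_pow, pow_card_eq_one', map_one, MonoidHom.one_apply]⟩
  have hdo : orderOf (detHom θ) ∣ o := by
    refine orderOf_dvd_of_pow_eq_one (MonoidHom.ext fun g => Units.ext ?_)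
    rw [MonoidHom.pow_apply, Units.val_pow_eq_pow_val, hz g]; rfl
  have ho0 : 0 < o := Nat.pos_of_ne_zero fun h => by rw [ho, h, mul_zero] at hopos; exact hopos.false
  have := Nat.le_of_dvd ho0 hdo
  rw [ho] at this
  nlinarith [hpp.two_le]

end Cfsg.Agent.KB64.PRat
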