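import Cfsg.Agent.KB64.PRat.Canonical
import Cfsg.Agent.Blocks88.Basic

/-!
# The canonical extension to the whole group and its stability under field automorphisms
-/

set_option autoImplicit false

open Cfsg

namespace Cfsg.Agent.KB64.PRat

open BlocksCore CharDeep.Ext

universe u

variable {G : Type u} [Group G] [Finite G] {p : ℕ} [Fact p.Prime] {M : Ideal AlgInt}

/-- Conjugation by an element normalising the Sylow subgroup preserves its centraliser. -/
theorem conj_mem_CQ (N : Subgroup G) (Q : Sylow p N) {h : G}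
    (hh : h ∈ Subgroup.normalizer (((Q : Subgroup N).map N.subtype : Subgroup G) : Set G)) {x : G}
    (hx : x ∈ CQ N Q) : h * x * h⁻¹ ∈ CQ N Q := by
  rw [CQ, Subgroup.mem_centralizer_iff] at hx ⊢
  intro q hq
  have h1 : h⁻¹ * q * h⁻¹⁻¹ ∈ ((Q : Subgroup N).map N.subtype : Subgroup G) :=
    (Subgroup.mem_normalizer_iff.mp (inv_mem hh) q).mp hq
  have h2 := hx _ h1
  rw [inv_inv] at h2
  calc q * (h * x * h⁻¹) = h * ((h⁻¹ * q * h) * x) * h⁻¹ := by group
    _ = h * (x * (h⁻¹ * q * h)) * h⁻¹ := by rw [h2]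
    _ = h * x * h⁻¹ * q := by group

/-- An invariant character of `p'`-degree and `p'`-determinantal order in the principal block has
an extension in the principal block which is fixed by every field automorphism fixing it. -/
theorem exists_canonical (hM : IsPModular p M) (N : Subgroup G) [N.Normal] (Q : Sylow p N)
    (θ : IrrCharacter N) (hθ : θ ∈ principalBlock M N) (hinv : Inv N (θ : N → ℂ)) {d : ℕ}
    (hd : (θ : N → ℂ) 1 = d) (hpd : ¬ p ∣ d) (hpo : ¬ p ∣ orderOf (detHom (θ : N → ℂ)))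
    (hidx : ∃ a : ℕ, (N ⊔ CQ N Q).index = p ^ a) :
    ∃ χ : IrrCharacter G, χ ∈ principalBlock M G ∧ (∀ n : N, (χ : G → ℂ) n = (θ : N → ℂ) n) ∧
      ∀ σ : ℂ →+* ℂ, (∀ n : N, σ ((θ : N → ℂ) n) = (θ : N → ℂ) n) →
        (∀ {H : Type u} [Group H] [Finite H] (φ : H → ℂ), IsCharacter H φ →
          orderOf (detHom (fun x => σ (φ x))) = orderOf (detHom φ)) →
        ∀ g, σ ((χ : G → ℂ) g) = (χ : G → ℂ) g := by
  classical
  have hp : p.Prime := Fact.out
  obtain ⟨a, ha⟩ := hidx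
  obtain ⟨K, hK⟩ : ∃ K : Subgroup G, K = N ⊔ CQ N Q := ⟨_, rfl⟩
  rw [← hK] at ha
  have hNK : N ≤ K := hK ▸ le_sup_left
  have hCK : CQ N Q ≤ K := hK ▸ le_sup_right
  -- `K` is normal
  have hgen : ∀ g : G, ∃ h ∈ Subgroup.normalizer (((Q : Subgroup N).map N.subtype : Subgroup G) : Set G),
      ∃ n ∈ N, h * n = g := fun g =>
    Subgroup.mem_sup_of_normal_right.mp (by
      rw [Sylow.normalizer_sup_eq_top Q]; exact Subgroup.mem_top g)
  have hKn : K.Normal := ⟨fun x hx g => by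
    obtain ⟨h, hh, n, hn, rfl⟩ := hgen g
    have hx' : n * x * n⁻¹ ∈ K := K.mul_mem (K.mul_mem (hNK hn) hx) (K.inv_mem (hNK hn))
    obtain ⟨a, ha, c, hc, hac⟩ := Subgroup.mem_sup_of_normal_left.mp (hK ▸ hx')
    have h2 := K.mul_mem (hNK (‹N.Normal›.conj_mem a ha h)) (hCK (conj_mem_CQ N Q hh hc))
    rwa [show h * a * h⁻¹ * (h * c * h⁻¹) = h * n * x * (h * n)⁻¹ by
      rw [show h * a * h⁻¹ * (h * c * h⁻¹) = h * (a * c) * h⁻¹ by group, hac]; group] at h2⟩
  -- transport to `K`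
  set N' := N.subgroupOf K with hN'
  let e : N' ≃* N := Subgroup.subgroupOfEquivOfLe hNK
  let Q' : Sylow p N' := Q.comapOfInjective e.toMonoidHom e.injective
    (fun y _ => ⟨e.symm y, e.apply_symm_apply y⟩)
  have hCQ : ∀ x : K, x ∈ CQ N' Q' ↔ (x : G) ∈ CQ N Q := by
    intro x
    rw [CQ, CQ, Subgroup.mem_centralizer_iff, Subgroup.mem_centralizer_iff]
    constructor
    · rintro h _ ⟨q, hq, rfl⟩
      exact congrArg Subtype.val (h ((e.symm q : N') : K) ⟨e.symm q, by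
        show e (e.symm q) ∈ (Q : Subgroup N)
        rw [e.apply_symm_apply]; exact hq, rfl⟩)
    · rintro h _ ⟨q, hq, rfl⟩
      exact Subtype.ext (h _ ⟨e q, hq, rfl⟩)
  have hcov : N' ⊔ CQ N' Q' = ⊤ := by
    rw [eq_top_iff]
    intro x _
    obtain ⟨b, hb, c, hc, hbc⟩ := Subgroup.mem_sup_of_normal_left.mp ((le_of_eq hK) x.2)
    have : x = ⟨b, hNK hb⟩ * ⟨c, hCK hc⟩ := Subtype.ext hbc.symm
    rw [this]
    exact (N' ⊔ CQ N' Q').mul_mem (Subgroup.mem_sup_left hb)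
      (Subgroup.mem_sup_right ((hCQ ⟨c, hCK hc⟩).mpr hc))
  obtain ⟨θ', hθ', hval⟩ := comp_mem_principalBlock hM e hθ
  have hd' : (θ' : N' → ℂ) 1 = d := by rw [hval, map_one, hd]
  have hinv' : Inv N' (θ' : N' → ℂ) := fun g n => by
    rw [hval, hval]; exact hinv (g : G) (e n)
  have hpo' : ¬ p ∣ orderOf (detHom (θ' : N' → ℂ)) := by
    intro h
    refine hpo (h.trans ?_)
    rw [show (θ' : N' → ℂ) = fun x => (θ : N → ℂ) (e.toMonoidHom x) from funext hval,
      detHom_comp (CharCore.irr_isCharacter θ) e.toMonoidHom]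
    apply orderOf_dvd_of_pow_eq_one
    ext x
    rw [MonoidHom.pow_apply, MonoidHom.comp_apply, ← MonoidHom.pow_apply, pow_orderOf_eq_one]
    rfl
  obtain ⟨χ₁, he₁, hg₁, ho₁⟩ := exists_good hM N' Q' hcov θ' hθ' hinv' hd' hpd hpo'
  have hu : ∀ χ' : IrrCharacter K, (∀ n : N', (χ' : K → ℂ) n = (θ' : N' → ℂ) n) →
      Good M N' Q' (χ' : K → ℂ) → ¬ p ∣ orderOf (detHom (χ' : K → ℂ)) → χ' = χ₁ :=
    fun χ' h1 h2 h3 => good_unique hM N' Q' hcov θ' hd' hpd h1 he₁ h2 hg₁ h3 ho₁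
  -- invariance
  have hinv₁ : Inv K (χ₁ : K → ℂ) := by
    intro g x
    obtain ⟨h, hh, n, hn, rfl⟩ := hgen g
    let φ : K ≃* K := MulAut.conjNormal h
    let χ' : IrrCharacter K := ⟨fun y => (χ₁ : K → ℂ) (φ y),
      CharCore.isIrrCharacter_comp_surjective χ₁.2 φ.toMonoidHom φ.surjective⟩
    have h1 : χ' = χ₁ := hu χ' (fun m => by
        show (χ₁ : K → ℂ) (φ (m : K)) = _
        have hm : φ (m : K) ∈ N' := by
          show ((φ (m : K) : K) : G) ∈ N
          rw [MulAut.conjNormal_apply]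
          exact ‹N.Normal›.conj_mem _ m.2 h
        rw [show φ (m : K) = ((⟨_, hm⟩ : N') : K) from rfl, he₁, hval, hval]
        exact (congrArg (θ : N → ℂ) (Subtype.ext (MulAut.conjNormal_apply h (m : K)))).trans
          (hinv h (e m)))
      (fun y hy => by
        have h2 : φ y ∈ CQ N' Q' := (hCQ _).mpr (by
          rw [MulAut.conjNormal_apply]; exact conj_mem_CQ N Q hh ((hCQ y).mp hy))
        have := hg₁ _ h2
        show MemLocalIdeal M ((χ₁ : K → ℂ) (φ y) / (χ₁ : K → ℂ) (φ 1) - 1)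
        rwa [map_one])
      (fun hd2 => ho₁ (hd2.trans (by
        show orderOf (detHom fun y => (χ₁ : K → ℂ) (φ.toMonoidHom y)) ∣ _
        rw [detHom_comp (CharCore.irr_isCharacter χ₁) φ.toMonoidHom]
        apply orderOf_dvd_of_pow_eq_one
        ext y
        rw [MonoidHom.pow_apply, MonoidHom.comp_apply, ← MonoidHom.pow_apply, pow_orderOf_eq_one]
        rfl)))
    have h3 : ∀ y, (χ₁ : K → ℂ) (φ y) = (χ₁ : K → ℂ) y := fun y =>
      congrFun (congrArg Subtype.val h1) y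
    let n' : K := ⟨n, hNK hn⟩
    have h4 := h3 (n' * x * n'⁻¹)
    rw [CharCore.irr_isClassFunction χ₁ x n'] at h4
    refine Eq.trans (congrArg (χ₁ : K → ℂ) (Subtype.ext ?_)) h4
    rw [MulAut.conjNormal_apply]
    simp [n', mul_assoc]
  have hd₁ : (χ₁ : K → ℂ) 1 = d := by rw [← hd', ← he₁ 1]; rfl
  obtain ⟨χ₀, ⟨hχ, hext, hdo⟩, huniq⟩ := exists_ext_detOrder K χ₁.2 hinv₁ hd₁ (by
    rw [ha, detOrder_eq]
    exact Nat.Coprime.pow_left a ((hp.coprime_iff_not_dvd).mpr fun h =>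
      (hp.dvd_mul.mp h).elim ho₁ hpd))
  have hθext : ∀ n : N, χ₀ n = (θ : N → ℂ) n := fun n => by
    have h1 := hext ((e.symm n : N') : K)
    rw [he₁, hval, e.apply_symm_apply] at h1
    exact h1
  have hgood : Good M N Q χ₀ := fun x hx => by
    have h1 := hg₁ ⟨x, hCK hx⟩ ((hCQ _).mpr hx)
    rwa [← hext, ← hext, OneMemClass.coe_one] at h1
  refine ⟨⟨χ₀, hχ⟩, ?_, hθext, fun σ hσ hmap g => ?_⟩
  · obtain ⟨ξ, hξ, hv⟩ := blocks_of_good hM N Q θ hθ hχ hθext hgood (MonoidHom.id G)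
      Function.injective_id (fun x _ => ⟨x, rfl⟩)
    exact (show ξ = ⟨χ₀, hχ⟩ from Subtype.ext (funext hv)) ▸ hξ
  have h1 : Blocks88.galoisIrr σ χ₁ = χ₁ := by
    refine hu _ (fun m => ?_) (good_of_blocks hM N' Q' fun x _ J hJ => ?_) ?_
    · show σ ((χ₁ : K → ℂ) m) = _
      rw [he₁, hval, hσ]
    · obtain ⟨ξ, hξ, hv⟩ := blocks_of_good hM N' Q' θ' hθ' χ₁.2 he₁ hg₁ J.subtype J.subtype_injective
        (fun y hy => ⟨⟨y, hJ ▸ Subgroup.mem_sup_left hy⟩, rfl⟩)
      exact ⟨Blocks88.galoisIrr σ ξ, BC86.galoisIrr_mem_principalBlock hM σ hξ, fun y =>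
        congrArg σ (hv y)⟩
    · show ¬ p ∣ orderOf (detHom fun y => σ ((χ₁ : K → ℂ) y))
      rw [hmap _ (CharCore.irr_isCharacter χ₁)]
      exact ho₁
  have h2 := huniq (fun y => σ (χ₀ y)) (OddChar.isIrrCharacter_map σ hχ)
    (fun y => by rw [hext]; exact congrFun (congrArg Subtype.val h1) y) (by
      rw [detOrder_eq, hmap _ (CharCore.IsIrrCharacter.isCharacter hχ), ← detOrder_eq, hdo,
        detOrder_eq, ha]
      exact Nat.Coprime.pow_left a ((hp.coprime_iff_not_dvd).mpr ho₁))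
  exact congrFun h2 g

end Cfsg.Agent.KB64.PRat
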